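import Groth.Agent.BertiniAff.Coords
import Mathlib.AlgebraicGeometry.Morphisms.Smooth
import Mathlib.RingTheory.TensorProduct.Quotient
import Mathlib.RingTheory.KrullDimension.Polynomial
import Mathlib.RingTheory.Ideal.MinimalPrime.Localization

/-! Hyperplane sections of a smooth piece. -/

set_option autoImplicit false
set_option backward.isDefEq.respectTransparency false
set_option linter.style.haveILetI false

universe u

open KaehlerDifferential
open scoped TensorProduct

namespace Groth.Agent.BertiniAff

variable {k : Type u} [Field k]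

theorem isStandardSmooth_mvPolynomial (m : ℕ) :
    Algebra.IsStandardSmoothOfRelativeDimension m k (MvPolynomial (Fin m) k) := by
  haveI : Algebra.IsStandardSmooth k (MvPolynomial (Fin m) k) :=
    .of_basis_kaehlerDifferential (mvPolynomialBasis k (Fin m)) (by
      rintro _ ⟨i, rfl⟩
      exact ⟨MvPolynomial.X i, (mvPolynomialBasis_apply ..).symm⟩)
  rw [Algebra.IsStandardSmoothOfRelativeDimension.iff_of_isStandardSmooth,
    rank_eq_card_basis (mvPolynomialBasis k (Fin m))]
  simp

set_option backward.isDefEq.respectTransparency true in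
theorem quotientSpanXZero (m : ℕ) : Nonempty (MvPolynomial (Fin m) k ≃ₐ[k]
    MvPolynomial (Fin (m + 1)) k ⧸
      Ideal.span {(MvPolynomial.X 0 : MvPolynomial (Fin (m + 1)) k)}) := by
  set I := Ideal.span {(MvPolynomial.X 0 : MvPolynomial (Fin (m + 1)) k)}
  let ι := MvPolynomial.aeval (R := k)
    fun i : Fin m => Ideal.Quotient.mkₐ k I (MvPolynomial.X i.succ)
  let v : Fin (m + 1) → MvPolynomial (Fin m) k := Fin.cons 0 MvPolynomial.X
  let ρ := MvPolynomial.aeval (R := k) v
  have hρ : ∀ i, ρ (MvPolynomial.X i) = v i := fun i => MvPolynomial.aeval_X v i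
  have hρI : ∀ a, a ∈ I → ρ a = 0 := by
    intro a ha
    obtain ⟨c, rfl⟩ := Ideal.mem_span_singleton'.1 ha
    rw [map_mul, hρ, show v 0 = 0 from Fin.cons_zero _ _, mul_zero]
  have hinj : Function.Injective ι := by
    let ρ' := Ideal.Quotient.lift I ρ.toRingHom hρI
    refine Function.LeftInverse.injective (g := ρ') fun x => ?_
    have : ρ'.comp ι.toRingHom = RingHom.id _ := by
      refine MvPolynomial.ringHom_ext (fun c => ?_) fun i => ?_
      · rw [RingHom.comp_apply, ← MvPolynomial.algebraMap_eq]
        rw [show ι.toRingHom (algebraMap k _ c) = Ideal.Quotient.mk I (algebraMap k _ c) from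
          ι.commutes c]
        exact (Ideal.Quotient.lift_mk _ _ _).trans (ρ.commutes c)
      · rw [RingHom.comp_apply,
          show ι.toRingHom (MvPolynomial.X i) = Ideal.Quotient.mk I (MvPolynomial.X i.succ) from
            MvPolynomial.aeval_X _ _]
        exact ((Ideal.Quotient.lift_mk _ _ _).trans (hρ _)).trans (Fin.cons_succ _ _ _)
    exact RingHom.congr_fun this x
  have hsurj : Function.Surjective ι := by
    intro y
    obtain ⟨P, rfl⟩ := Ideal.Quotient.mk_surjective y
    show _ ∈ ι.range
    induction P using MvPolynomial.induction_on with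
    | C c => exact ι.range.algebraMap_mem c
    | add p q hp hq => rw [map_add]; exact add_mem hp hq
    | mul_X p i hp =>
      rw [map_mul]
      refine mul_mem hp ?_
      induction i using Fin.cases with
      | zero =>
        rw [show Ideal.Quotient.mk I (MvPolynomial.X 0) = 0 from
          Ideal.Quotient.eq_zero_iff_mem.2 (Ideal.subset_span rfl)]
        exact zero_mem _
      | succ j => exact ⟨MvPolynomial.X j, MvPolynomial.aeval_X _ _⟩
  exact ⟨AlgEquiv.ofBijective ι ⟨hinj, hsurj⟩⟩

/-- Cutting by the first of a system of coordinates. -/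
theorem isStandardSmooth_quotient_of_coord {B : Type u} [CommRing B] [Algebra k B]
    [Algebra.Smooth k B] {m : ℕ} {z : Fin (m + 1) → B}
    (b : Module.Basis (Fin (m + 1)) B Ω[B⁄k]) (hb : ∀ t, b t = D k B (z t)) :
    Algebra.IsStandardSmoothOfRelativeDimension m k (B ⧸ Ideal.span {z 0}) := by
  let R := MvPolynomial (Fin (m + 1)) k
  letI := (MvPolynomial.aeval z : R →ₐ[k] B).toRingHom.toAlgebra
  haveI : IsScalarTower k R B :=
    IsScalarTower.of_algebraMap_eq fun x => ((MvPolynomial.aeval z).commutes x).symm
  haveI : Algebra.FormallyEtale R B := DiffOp.formallyEtale_aeval b hb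
  haveI : Algebra.FiniteType R B := .of_restrictScalars_finiteType k _ _
  haveI : Algebra.FinitePresentation R B :=
    Algebra.FinitePresentation.of_finiteType.1 inferInstance
  haveI : Algebra.Etale R B := {}
  let I : Ideal R := Ideal.span {MvPolynomial.X 0}
  haveI : Algebra.Etale (R ⧸ I) (B ⧸ I.map (algebraMap R B)) :=
    Algebra.Etale.of_equiv (R := R ⧸ I) (A := (R ⧸ I) ⊗[R] B) (Algebra.TensorProduct.quotIdealMapEquivQuotTensor B I).symm
  haveI : Algebra.IsStandardSmoothOfRelativeDimension 0 (R ⧸ I) (B ⧸ I.map (algebraMap R B)) :=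
    Algebra.Etale.iff_isStandardSmoothOfRelativeDimension_zero.1 inferInstance
  obtain ⟨e⟩ := quotientSpanXZero (k := k) m
  haveI := isStandardSmooth_mvPolynomial (k := k) m
  haveI : Algebra.IsStandardSmoothOfRelativeDimension m k (R ⧸ I) :=
    .of_algEquiv m e
  haveI : IsScalarTower k (R ⧸ I) (B ⧸ I.map (algebraMap R B)) :=
    IsScalarTower.of_algebraMap_eq (R := k) (S := R ⧸ I) (A := B ⧸ I.map (algebraMap R B))
      fun c => by
      show Ideal.Quotient.mk _ (algebraMap k B c) = Ideal.Quotient.mk _ _
      exact congrArg _ (IsScalarTower.algebraMap_apply k R B c)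
  have h3 := Algebra.IsStandardSmoothOfRelativeDimension.trans (R := k) (S := R ⧸ I)
    (T := B ⧸ I.map (algebraMap R B)) (n := m) (m := 0)
  rw [Nat.zero_add] at h3
  have he : I.map (algebraMap R B) = Ideal.span {z 0} := by
    rw [Ideal.map_span, Set.image_singleton]
    simp [RingHom.algebraMap_toAlgebra, R]
  exact .of_algEquiv m (Ideal.quotientEquivAlgOfEq k he)

/-- A generic affine hyperplane is transversal on a smooth piece. -/
theorem exists_good {B : Type u} [CommRing B] [Algebra k B] [Algebra.Smooth k B] {n d : ℕ}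
    (y : Fin n → B) (s : Fin d → Fin n) (hs : Function.Injective s)
    (b : Module.Basis (Fin d) B Ω[B⁄k]) (hb : ∀ t, b t = D k B (y (s t))) :
    ∃ g : MvPolynomial (Fin (n + 1)) k, g ≠ 0 ∧ ∀ a : Fin (n + 1) → k, MvPolynomial.eval a g ≠ 0 →
      ∀ P : Ideal B, P.IsPrime →
        algebraMap k B (a 0) + ∑ i : Fin n, algebraMap k B (a i.succ) * y i ∈ P →
        ∃ t, b.repr (D k B (algebraMap k B (a 0) + ∑ i : Fin n, algebraMap k B (a i.succ) * y i)) t ∉ P := by
  classical
  let σ := {j : Fin n // j ∉ Set.range s}
  let C := MvPolynomial σ B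
  let ω : Fin d → Fin n → B := fun t i => b.repr (D k B (y i)) t
  let α : Fin n → C := fun i => if h : i ∈ Set.range s then
    -∑ j : σ, MvPolynomial.C (ω h.choose j.1) * MvPolynomial.X j else MvPolynomial.X ⟨i, h⟩
  let α0 : C := -∑ i, α i * MvPolynomial.C (y i)
  let φ : MvPolynomial (Fin (n + 1)) k →ₐ[k] C := MvPolynomial.aeval (Fin.cons α0 α)
  haveI : IsNoetherianRing B := Algebra.FiniteType.isNoetherianRing k B
  have hCdim : ringKrullDim C ≤ n := by
    have hBd : ringKrullDim B ≤ d := ringKrullDim_le_of_forall_minimalPrimes _ fun Q hQ =>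
      (ringKrullDim_quotient_minimalPrime b hb hQ).le
    have hσ : d + Nat.card σ = n := by
      have h1 : Nat.card σ = n - d := by
        rw [Nat.card_eq_fintype_card,
          Fintype.card_subtype_compl, Fintype.card_fin]
        congr 1
        exact (Set.card_range_of_injective hs).trans (Fintype.card_fin d)
      have h2 : d ≤ n := by simpa using Fintype.card_le_of_injective s hs
      omega
    rw [MvPolynomial.ringKrullDim_of_isNoetherianRing]
    calc ringKrullDim B + (Nat.card σ : WithBot ℕ∞) ≤ d + (Nat.card σ : WithBot ℕ∞) := by gcongr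
      _ = n := by exact_mod_cast congrArg (fun x : ℕ => (x : WithBot ℕ∞)) hσ
  have hninj : ¬ Function.Injective φ := by
    intro hinj
    have h0 : (⊥ : Ideal (MvPolynomial (Fin (n + 1)) k)) ∈ ((⊥ : Ideal C).comap φ.toRingHom).minimalPrimes := by
      rw [Ideal.comap_bot_of_injective φ.toRingHom hinj, Ideal.minimalPrimes_eq_subsingleton_self]
      exact rfl
    obtain ⟨Q, hQ, hQc⟩ := Ideal.exists_minimalPrimes_comap_eq φ.toRingHom ⊥ h0
    haveI : Q.IsPrime := hQ.1.1
    haveI : Algebra.FiniteType k C := inferInstance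
    obtain ⟨N, hN, hNdim⟩ := DimTrdeg.exists_trdeg_eq_ringKrullDim k (C ⧸ Q)
    have hle := trdeg_le_of_injective ((Ideal.Quotient.mkₐ k Q).comp φ) (by
      rw [injective_iff_map_eq_zero]
      intro x hx
      have : φ x ∈ Q := Ideal.Quotient.eq_zero_iff_mem.1 hx
      replace this : x ∈ Q.comap φ.toRingHom := this
      rw [hQc] at this
      exact this)
    rw [MvPolynomial.trdeg_of_isDomain, hN] at hle
    have hle' : n + 1 ≤ N := by simpa using hle
    have h2 := (ringKrullDim_quotient_le Q).trans hCdim
    rw [hNdim] at h2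
    have : N ≤ n := by exact_mod_cast h2
    omega
  rw [injective_iff_map_eq_zero] at hninj
  push Not at hninj
  obtain ⟨g, hg0, hg⟩ := hninj
  refine ⟨g, hg, fun a ha P hP hmem => ?_⟩
  by_contra! hc
  haveI := hP
  let K := B ⧸ P
  let π : B →ₐ[k] K := Ideal.Quotient.mkₐ k P
  let ψ : C →ₐ[k] K := MvPolynomial.aevalTower π
    (fun j : σ => algebraMap k K (a j.1.succ))
  have hrepr : ∀ t, ∑ i, algebraMap k K (a i.succ) * π (ω t i) = 0 := by
    intro t
    have := hc t
    rw [← Ideal.Quotient.eq_zero_iff_mem] at this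
    rw [map_add, map_sum, Derivation.map_algebraMap, zero_add, map_sum, Finsupp.finsetSum_apply,
      map_sum] at this
    refine (Finset.sum_congr rfl fun i _ => ?_).trans this
    have e1 : D k B (algebraMap k B (a i.succ) * y i) = algebraMap k B (a i.succ) • D k B (y i) := by
      rw [Derivation.leibniz, Derivation.map_algebraMap, smul_zero, add_zero]
    rw [e1, map_smul, Finsupp.smul_apply, smul_eq_mul, map_mul, Ideal.Quotient.mk_algebraMap]
    rfl
  have hψα : ∀ i, ψ (α i) = algebraMap k K (a i.succ) := by
    intro i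
    by_cases h : i ∈ Set.range s
    · simp only [α, dif_pos h]
      letI : Fintype {x // x ∈ Set.range s} := Subtype.fintype _
      have ht := hrepr h.choose
      rw [← Fintype.sum_subtype_add_sum_subtype (fun x => x ∈ Set.range s)] at ht
      have hω : ∀ t' : {x // x ∈ Set.range s},
          π (ω h.choose t'.1) = if t'.1 = i then 1 else 0 := by
        rintro ⟨_, t', rfl⟩
        simp only [ω, ← hb, Module.Basis.repr_self, Finsupp.single_apply]
        rw [apply_ite π, map_one, map_zero]
        refine if_congr ⟨fun e => e ▸ h.choose_spec, fun e => hs (e.trans h.choose_spec.symm)⟩ rfl rfl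
      replace ht : algebraMap k K (a i.succ) +
          ∑ j : σ, algebraMap k K (a j.1.succ) * π (ω h.choose j.1) = 0 := by
        refine Eq.trans ?_ ht
        congr 1
        refine ((Finset.sum_eq_single (⟨i, h⟩ : {x // x ∈ Set.range s})
          (fun x _ hx => ?_) (fun hx => absurd (Finset.mem_univ _) hx)).trans ?_).symm
        · rw [hω, if_neg fun e => hx (Subtype.ext e), mul_zero]
        · rw [hω, if_pos rfl, mul_one]
      rw [map_neg, map_sum]
      simp only [map_mul]
      rw [eq_comm, ← add_eq_zero_iff_eq_neg, ← ht]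
      congr 1
      refine Finset.sum_congr rfl fun j _ => ?_
      rw [show ψ (MvPolynomial.C (ω h.choose j.1)) = π (ω h.choose j.1) from
          MvPolynomial.aevalTower_C _ _ _,
        show ψ (MvPolynomial.X j) = algebraMap k K (a j.1.succ) from
          MvPolynomial.aevalTower_X _ _ _, mul_comm]
    · simp only [α]
      rw [dif_neg h]
      exact MvPolynomial.aevalTower_X _ _ _
  have hψ0 : ψ α0 = algebraMap k K (a 0) := by
    have h1 : π (algebraMap k B (a 0) + ∑ i : Fin n, algebraMap k B (a i.succ) * y i) = 0 :=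
      Ideal.Quotient.eq_zero_iff_mem.2 hmem
    simp only [map_add, map_sum, map_mul, AlgHom.commutes] at h1
    simp only [α0, map_neg, map_sum, map_mul, hψα]
    have hC : ∀ x, ψ (MvPolynomial.C x) = π x := fun x => MvPolynomial.aevalTower_C _ _ x
    simp only [hC]
    rw [eq_comm, ← add_eq_zero_iff_eq_neg]
    exact h1
  have hcomp : ψ.comp φ = (Algebra.ofId k K).comp (MvPolynomial.aeval a) :=
    MvPolynomial.algHom_ext fun i => by
      induction i using Fin.cases with
      | zero => simp [φ, hψ0, Algebra.ofId_apply]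
      | succ j => simp [φ, hψα, Algebra.ofId_apply]
  have h2 := DFunLike.congr_fun hcomp g
  simp only [AlgHom.comp_apply, hg0, map_zero, Algebra.ofId_apply] at h2
  exact ha ((map_eq_zero _).1 h2.symm)

end Groth.Agent.BertiniAff
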