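import Groth.Agent.DiffOp.Coord
import Groth.Agent.DimTrdeg.Basic
import Mathlib.RingTheory.Smooth.StandardSmoothOfFree
import Mathlib.RingTheory.Etale.Kaehler
import Mathlib.RingTheory.Smooth.Locus
import Mathlib.RingTheory.Unramified.Field

/-! Coordinates on smooth pieces of affine algebras over a field. -/

set_option autoImplicit false

universe u

open KaehlerDifferential
open scoped TensorProduct

namespace Groth.Agent.BertiniAff

variable {k : Type u} [Field k]

/-- The Krull dimension is bounded by the dimensions of the quotients by minimal primes. -/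
theorem ringKrullDim_le_of_forall_minimalPrimes {B : Type u} [CommRing B] (d : WithBot ℕ∞)
    (h : ∀ Q ∈ minimalPrimes B, ringKrullDim (B ⧸ Q) ≤ d) : ringKrullDim B ≤ d := by
  refine iSup_le fun l => ?_
  obtain ⟨Q, hQ, hle⟩ := Ideal.exists_minimalPrimes_le (bot_le : (⊥ : Ideal B) ≤ l.head.asIdeal)
  have hle' : ∀ i, Q ≤ (l i).asIdeal := fun i =>
    hle.trans (l.head_le i)
  let l' : LTSeries (PrimeSpectrum (B ⧸ Q)) :=
    { length := l.length
      toFun := fun i => ⟨(l i).asIdeal.map (Ideal.Quotient.mk Q),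
        Ideal.map_isPrime_of_surjective Ideal.Quotient.mk_surjective (by simpa using hle' i)⟩
      step := fun i => by
        have h1 : (l i.castSucc).asIdeal < (l i.succ).asIdeal := l.step i
        have hle2 : (l i.castSucc).asIdeal.map (Ideal.Quotient.mk Q) ≤
            (l i.succ).asIdeal.map (Ideal.Quotient.mk Q) := Ideal.map_mono h1.le
        refine lt_of_le_of_ne hle2 fun e => h1.ne ?_
        have := congrArg (Ideal.comap (Ideal.Quotient.mk Q)) e
        simpa [Ideal.comap_map_of_surjective _ Ideal.Quotient.mk_surjective, Ideal.mk_ker,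
          ← RingHom.ker_eq_comap_bot, sup_eq_left.2 (hle' _)] using this }
  exact (le_iSup_of_le l' le_rfl : (l.length : WithBot ℕ∞) ≤ ringKrullDim (B ⧸ Q)).trans (h Q hQ)

/-- On a smooth algebra with coordinates `z`, every minimal prime has a quotient of dimension `d`. -/
theorem ringKrullDim_quotient_minimalPrime {B : Type u} [CommRing B] [Algebra k B]
    [Algebra.Smooth k B] {d : ℕ} {z : Fin d → B} (b : Module.Basis (Fin d) B Ω[B⁄k])
    (hb : ∀ t, b t = D k B (z t)) {Q : Ideal B} (hQ : Q ∈ minimalPrimes B) :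
    ringKrullDim (B ⧸ Q) = d := by
  haveI : Q.IsPrime := hQ.1.1
  letI := (MvPolynomial.aeval z : MvPolynomial (Fin d) k →ₐ[k] B).toRingHom.toAlgebra
  haveI : IsScalarTower k (MvPolynomial (Fin d) k) B :=
    IsScalarTower.of_algebraMap_eq fun x => ((MvPolynomial.aeval z).commutes x).symm
  haveI : Algebra.FormallyEtale (MvPolynomial (Fin d) k) B := DiffOp.formallyEtale_aeval b hb
  haveI : Algebra.FiniteType (MvPolynomial (Fin d) k) B :=
    .of_restrictScalars_finiteType k _ _
  haveI : Algebra.FinitePresentation (MvPolynomial (Fin d) k) B :=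
    Algebra.FinitePresentation.of_finiteType.1 inferInstance
  haveI : Algebra.Etale (MvPolynomial (Fin d) k) B := {}
  haveI : Module.Flat (MvPolynomial (Fin d) k) B := inferInstance
  have h0 : ∀ r : MvPolynomial (Fin d) k, algebraMap _ B r ∈ Q → r = 0 := by
    intro r hr
    by_contra hne
    refine Set.disjoint_left.1 (Ideal.disjoint_nonZeroDivisors_of_mem_minimalPrimes hQ) hr
      (mem_nonZeroDivisors_iff_right.2 fun y hy => ?_)
    have hinj : IsSMulRegular B r :=
      Module.Flat.isSMulRegular_of_isRegular (IsRegular.of_ne_zero hne)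
    exact hinj (by simpa [Algebra.smul_def, mul_comm] using hy)
  let L := FractionRing (B ⧸ Q)
  have hfaith : FaithfulSMul (MvPolynomial (Fin d) k) (B ⧸ Q) :=
    (faithfulSMul_iff_algebraMap_injective _ _).2 ((injective_iff_map_eq_zero _).2 fun r hr =>
      h0 r (Ideal.Quotient.eq_zero_iff_mem.1 hr))
  have halg : Algebra.IsAlgebraic (MvPolynomial (Fin d) k) (B ⧸ Q) := by
    let K := FractionRing (MvPolynomial (Fin d) k)
    haveI : FaithfulSMul (MvPolynomial (Fin d) k) L :=
      FaithfulSMul.trans (MvPolynomial (Fin d) k) (B ⧸ Q) L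
    letI : Algebra K L := FractionRing.liftAlgebra _ _
    let E := K ⊗[MvPolynomial (Fin d) k] B
    haveI : Module.Finite K E := Algebra.FormallyUnramified.finite_of_free K E
    let φ : E →ₐ[K] L := Algebra.TensorProduct.lift (Algebra.ofId K L)
      (IsScalarTower.toAlgHom (MvPolynomial (Fin d) k) B L) fun _ _ => Commute.all _ _
    refine ⟨fun y => ?_⟩
    obtain ⟨y, rfl⟩ := Ideal.Quotient.mk_surjective y
    have h1 : IsAlgebraic K (φ ((1 : K) ⊗ₜ y)) :=
      ((Algebra.IsIntegral.isIntegral (R := K) ((1 : K) ⊗ₜ y : E)).map φ).isAlgebraic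
    have h2 : IsAlgebraic (MvPolynomial (Fin d) k) (algebraMap (B ⧸ Q) L (Ideal.Quotient.mk Q y)) := by
      have hφ : φ ((1 : K) ⊗ₜ y) = algebraMap (B ⧸ Q) L (Ideal.Quotient.mk Q y) := by
        refine (Algebra.TensorProduct.lift_tmul _ _ _ _ _).trans ?_
        rw [map_one, one_mul]
        exact IsScalarTower.algebraMap_apply B (B ⧸ Q) L y
      rw [hφ] at h1
      exact (IsFractionRing.isAlgebraic_iff (MvPolynomial (Fin d) k) K L).2 h1
    exact (isAlgebraic_algebraMap_iff (IsFractionRing.injective (B ⧸ Q) L)).1 h2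
  obtain ⟨m, hm, hdim⟩ := DimTrdeg.exists_trdeg_eq_ringKrullDim k (B ⧸ Q)
  rw [DimTrdeg.trdeg_eq_of_isAlgebraic k (MvPolynomial (Fin d) k) (B ⧸ Q),
    MvPolynomial.trdeg_of_isDomain] at hm
  have hmd : d = m := by simpa using hm
  rw [hdim, hmd]

theorem span_D_eq_top {A : Type u} [CommRing A] [Algebra k A] {ι : Type*} (x : ι → A)
    (hx : Function.Surjective (MvPolynomial.aeval x : MvPolynomial ι k →ₐ[k] A)) :
    Submodule.span A (Set.range fun i => D k A (x i)) = ⊤ := by
  refine eq_top_iff.2 ((KaehlerDifferential.span_range_derivation k A).ge.trans ?_)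
  rw [Submodule.span_le]
  rintro _ ⟨a, rfl⟩
  obtain ⟨P, rfl⟩ := hx a
  induction P using MvPolynomial.induction_on with
  | C r => simp
  | add p q hp hq => simpa using Submodule.add_mem _ hp hq
  | mul_X p i hp =>
    simp only [map_mul, MvPolynomial.aeval_X, Derivation.leibniz, SetLike.mem_coe]
    exact Submodule.add_mem _ (Submodule.smul_mem _ _ (Submodule.subset_span ⟨i, rfl⟩))
      (Submodule.smul_mem _ _ hp)

/-- Near a smooth point, some of the given generators give a basis of differentials. -/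
theorem exists_piece {A : Type u} [CommRing A] [Algebra k A] {n : ℕ} (x : Fin n → A)
    (hx : Function.Surjective (MvPolynomial.aeval x : MvPolynomial (Fin n) k →ₐ[k] A))
    (p : Ideal A) [p.IsPrime] [Algebra.FinitePresentation k A] {f : A} (hf : f ∉ p)
    (hsm : Algebra.Smooth k (Localization.Away f)) :
    ∃ (h : A) (_ : h ∉ p), Algebra.Smooth k (Localization.Away h) ∧
      ∃ (d : ℕ) (s : Fin d → Fin n) (b : Module.Basis (Fin d) (Localization.Away h) Ω[Localization.Away h⁄k]),
        Function.Injective s ∧ ∀ t, b t = D k (Localization.Away h) (algebraMap A _ (x (s t))) := by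
  classical
  have hsub := Algebra.basicOpen_subset_smoothLocus_iff_smooth.2 hsm
  haveI : Algebra.IsSmoothAt k p := hsub (a := ⟨p, ‹_›⟩) hf
  let T := Localization.AtPrime p
  let x' : ULift.{u} (Fin n) → A := fun i => x i.down
  have hspan : Submodule.span T
      (Set.range fun i : ULift.{u} (Fin n) => map k k A T (D k A (x' i))) = ⊤ := by
    have := span_eq_top_of_isLocalizedModule T p.primeCompl (map k k A T) (span_D_eq_top x hx)
    refine le_antisymm le_top (this.ge.trans (Submodule.span_mono ?_))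
    rintro _ ⟨_, ⟨i, rfl⟩, rfl⟩
    exact ⟨⟨i⟩, rfl⟩
  obtain ⟨κ, a, b, hb⟩ := Module.exists_basis_of_span_of_flat _ hspan
  let e : (κ →₀ A) →ₗ[A] Ω[A⁄k] := Finsupp.linearCombination A fun i : κ => D k A (x' (a i))
  let l₁ : (κ →₀ A) →ₗ[A] (κ →₀ T) := Finsupp.mapRange.linearMap (Algebra.linearMap A T)
  let l₂ : Ω[A⁄k] →ₗ[A] Ω[T⁄k] := map k k A T
  let eₚ : (κ →₀ T) →ₗ[T] Ω[T⁄k] := IsLocalizedModule.mapExtendScalars p.primeCompl l₁ l₂ T e
  have : eₚ = b.repr.symm := by
    ext i
    trans IsLocalizedModule.map p.primeCompl l₁ l₂ e <| l₁ <| Finsupp.single i 1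
    · simp [eₚ, -IsLocalizedModule.map_apply, l₁]
    · simp [l₂, e, hb]
  have heₚ : Function.Bijective eₚ := this ▸ b.repr.symm.bijective
  haveI : Finite κ := Module.Finite.finite_basis b
  haveI : Module.FinitePresentation A (Ω[A⁄k]) := inferInstance
  obtain ⟨g, hg, hbij⟩ := exists_bijective_map_powers p.primeCompl l₁ l₂ e heₚ
  have hh : f * g ∉ p := ‹p.IsPrime›.mul_notMem hf hg
  let B := Localization.Away (f * g)
  have hsmB : Algebra.Smooth k B :=
    Algebra.basicOpen_subset_smoothLocus_iff_smooth.1 fun q hq => hsub fun hfq =>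
      hq (q.asIdeal.mul_mem_right g hfq)
  let m₁ : (κ →₀ A) →ₗ[A] (κ →₀ B) := Finsupp.mapRange.linearMap (Algebra.linearMap A B)
  let m₂ : Ω[A⁄k] →ₗ[A] Ω[B⁄k] := map k k A B
  have hbij' : Function.Bijective (IsLocalizedModule.map (Submonoid.powers (f * g)) m₁ m₂ e) := by
    rw [IsLocalizedModule.map_bijective_iff_localizedModuleMap_bijective m₁ m₂]
    exact hbij (f * g) (Dvd.intro_left f rfl)
  let eB : (κ →₀ B) →ₗ[B] Ω[B⁄k] :=
    IsLocalizedModule.mapExtendScalars (Submonoid.powers (f * g)) m₁ m₂ B e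
  let bB : Module.Basis κ B Ω[B⁄k] := .ofRepr (LinearEquiv.ofBijective eB hbij').symm
  let ν : κ ≃ Fin (Nat.card κ) := Finite.equivFin κ
  refine ⟨f * g, hh, hsmB, Nat.card κ, fun t => (a (ν.symm t)).down, bB.reindex ν, ?_, fun t => ?_⟩
  · intro t t' htt
    haveI : Nontrivial T := inferInstance
    have : a (ν.symm t) = a (ν.symm t') := ULift.ext _ _ htt
    exact ν.symm.injective (b.injective (by rw [hb, hb, this]))
  · simp +zetaDelta [IsLocalizedModule.map_linearCombination]

end Groth.Agent.BertiniAff
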