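import Groth.Agent.BertiniAff.Section
import Mathlib.RingTheory.Localization.Away.Basic
import Mathlib.RingTheory.Kaehler.TensorProduct

/-! Bertini for affine hyperplane sections. -/

set_option autoImplicit false
set_option linter.style.haveILetI false

universe u

open KaehlerDifferential CategoryTheory AlgebraicGeometry
open scoped TensorProduct

namespace Groth.Agent.BertiniAff

variable {k : Type u} [Field k]

/-- The dimension of a smooth piece of an equidimensional algebra. -/
theorem dim_eq {A B : Type u} [CommRing A] [Algebra k A] [CommRing B] [Algebra k B] [Algebra A B]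
    [IsScalarTower k A B] [Algebra.FiniteType k A] [Algebra.Smooth k B] [Nontrivial B] {h : A}
    [IsLocalization.Away h B] {r d : ℕ}
    (hdim : ∀ P ∈ minimalPrimes A, ringKrullDim (A ⧸ P) = r) {z : Fin d → B}
    (b : Module.Basis (Fin d) B Ω[B⁄k]) (hb : ∀ t, b t = D k B (z t)) : d = r := by
  obtain ⟨M, hM⟩ := Ideal.exists_maximal B
  haveI := hM.isPrime
  obtain ⟨Q, hQ, -⟩ := Ideal.exists_minimalPrimes_le (bot_le : (⊥ : Ideal B) ≤ M)
  haveI : Q.IsPrime := hQ.1.1
  let P := Q.comap (algebraMap A B)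
  have hP : P ∈ minimalPrimes A := by
    have h1 : Q ∈ ((⊥ : Ideal A).map (algebraMap A B)).minimalPrimes := by
      rw [Ideal.map_bot]; exact hQ
    rwa [IsLocalization.minimalPrimes_map (Submonoid.powers h)] at h1
  haveI : P.IsPrime := hP.1.1
  letI : Algebra (A ⧸ P) (B ⧸ Q) := (Ideal.quotientMap Q (algebraMap A B) le_rfl).toAlgebra
  haveI : IsScalarTower k (A ⧸ P) (B ⧸ Q) := IsScalarTower.of_algebraMap_eq fun c => by
    show Ideal.Quotient.mk Q (algebraMap k B c) = Ideal.Quotient.mk Q (algebraMap A B (algebraMap k A c))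
    rw [IsScalarTower.algebraMap_apply k A B c]
  haveI : FaithfulSMul (A ⧸ P) (B ⧸ Q) :=
    (faithfulSMul_iff_algebraMap_injective _ _).2 Ideal.quotientMap_injective
  haveI : Algebra.IsAlgebraic (A ⧸ P) (B ⧸ Q) := by
    refine ⟨fun y => ?_⟩
    obtain ⟨y, rfl⟩ := Ideal.Quotient.mk_surjective y
    obtain ⟨⟨a, ⟨_, m, rfl⟩⟩, ha⟩ := IsLocalization.surj (Submonoid.powers h) y
    have hh : Ideal.Quotient.mk P (h ^ m) ≠ 0 := by
      rw [Ne, Ideal.Quotient.eq_zero_iff_mem]
      exact fun hm => ‹Q.IsPrime›.ne_top (Ideal.eq_top_of_isUnit_mem _ hm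
        (IsLocalization.map_units B (⟨_, m, rfl⟩ : Submonoid.powers h)))
    refine ⟨Polynomial.C (Ideal.Quotient.mk P (h ^ m)) * Polynomial.X -
      Polynomial.C (Ideal.Quotient.mk P a), fun e => hh ?_, ?_⟩
    · have := congrArg (Polynomial.coeff · 1) e
      simp only [Polynomial.coeff_sub, Polynomial.coeff_C_mul, Polynomial.coeff_X_one, mul_one,
        Polynomial.coeff_C, one_ne_zero, if_false, sub_zero, Polynomial.coeff_zero] at this
      exact this
    · simp only [map_sub, map_mul, Polynomial.aeval_C, Polynomial.aeval_X]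
      show Ideal.Quotient.mk Q (algebraMap A B (h ^ m)) * Ideal.Quotient.mk Q y -
        Ideal.Quotient.mk Q (algebraMap A B a) = 0
      rw [← map_mul, mul_comm, ha, sub_self]
  obtain ⟨m₁, hm₁, hd₁⟩ := DimTrdeg.exists_trdeg_eq_ringKrullDim k (A ⧸ P)
  haveI : Algebra.FiniteType k B := inferInstance
  obtain ⟨m₂, hm₂, hd₂⟩ := DimTrdeg.exists_trdeg_eq_ringKrullDim k (B ⧸ Q)
  rw [DimTrdeg.trdeg_eq_of_isAlgebraic k (A ⧸ P) (B ⧸ Q), hm₁, Nat.cast_inj] at hm₂
  rw [hdim P hP] at hd₁
  rw [ringKrullDim_quotient_minimalPrime b hb hQ] at hd₂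
  have e1 : r = m₁ := by exact_mod_cast hd₁
  have e2 : d = m₂ := by exact_mod_cast hd₂
  omega

/-- The set of smooth pieces with coordinates among the generators. -/
def pieces {n : ℕ} {A : Type u} [CommRing A] [Algebra k A] (x : Fin n → A) : Set A :=
  {h | Algebra.Smooth k (Localization.Away h) ∧
    ∃ (d : ℕ) (s : Fin d → Fin n)
      (b : Module.Basis (Fin d) (Localization.Away h) Ω[Localization.Away h⁄k]),
      Function.Injective s ∧ ∀ t, b t = D k (Localization.Away h) (algebraMap A _ (x (s t)))}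

theorem main [Infinite k] {n r : ℕ} {A : Type u} [CommRing A] [Algebra k A] (x : Fin n → A)
    (hx : Function.Surjective (MvPolynomial.aeval x : MvPolynomial (Fin n) k →ₐ[k] A))
    (hdim : ∀ P ∈ minimalPrimes A, ringKrullDim (A ⧸ P) = r) :
    ∃ g : MvPolynomial (Fin (n + 1)) k, g ≠ 0 ∧
      ∀ a : Fin (n + 1) → k, MvPolynomial.eval a g ≠ 0 →
        ∀ (q : Ideal (A ⧸ Ideal.span {algebraMap k A (a 0) + ∑ i : Fin n, algebraMap k A (a i.succ) * x i}))
          (_ : q.IsPrime),
          (∃ f : A, f ∉ q.comap (Ideal.Quotient.mk _) ∧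
            Smooth (Spec.map (CommRingCat.ofHom (algebraMap k (Localization.Away f))))) →
          ∃ f : A ⧸ Ideal.span {algebraMap k A (a 0) + ∑ i : Fin n, algebraMap k A (a i.succ) * x i},
            f ∉ q ∧ SmoothOfRelativeDimension (r - 1)
              (Spec.map (CommRingCat.ofHom (algebraMap k (Localization.Away f)))) := by
  classical
  haveI : Algebra.FiniteType k A :=
    Algebra.FiniteType.of_surjective (MvPolynomial.aeval x) hx
  haveI : Algebra.FinitePresentation k A := Algebra.FinitePresentation.of_finiteType.1 inferInstance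
  haveI : IsNoetherianRing A := Algebra.FiniteType.isNoetherianRing k A
  obtain ⟨F, hFsub, hFspan⟩ := (Submodule.fg_span_iff_fg_span_finset_subset _).1
    (IsNoetherian.noetherian (Ideal.span (pieces (k := k) x)))
  have hgood : ∀ h ∈ F, ∃ g : MvPolynomial (Fin (n + 1)) k, g ≠ 0 ∧
      ∀ a : Fin (n + 1) → k, MvPolynomial.eval a g ≠ 0 →
      ∀ P : Ideal (Localization.Away h), P.IsPrime →
        algebraMap k (Localization.Away h) (a 0) + ∑ i : Fin n,
          algebraMap k (Localization.Away h) (a i.succ) * algebraMap A _ (x i) ∈ P →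
        ∃ (d : ℕ) (z : Fin d → Localization.Away h)
          (b : Module.Basis (Fin d) (Localization.Away h) Ω[Localization.Away h⁄k]),
          (∀ t, b t = D k _ (z t)) ∧
          ∃ t, b.repr (D k _ (algebraMap k (Localization.Away h) (a 0) + ∑ i : Fin n,
            algebraMap k (Localization.Away h) (a i.succ) * algebraMap A _ (x i))) t ∉ P := by
    intro h hh
    obtain ⟨hsm, d, s, b, hs, hb⟩ := hFsub hh
    haveI := hsm
    obtain ⟨g, hg, hg'⟩ := exists_good (k := k)
      (fun i => algebraMap A (Localization.Away h) (x i)) s hs b hb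
    exact ⟨g, hg, fun a ha P hP hm => ⟨d, _, b, hb, hg' a ha P hP hm⟩⟩
  choose! g hg hg' using hgood
  refine ⟨∏ h ∈ F, g h, Finset.prod_ne_zero_iff.2 hg, fun a ha => ?_⟩
  rw [map_prod, Finset.prod_ne_zero_iff] at ha
  set ha0 := algebraMap k A (a 0) + ∑ i : Fin n, algebraMap k A (a i.succ) * x i with hha0
  intro q hq hf
  obtain ⟨f, hf, hfsm⟩ := hf
  let p : Ideal A := q.comap (Ideal.Quotient.mk _)
  haveI : p.IsPrime := hq.comap _
  have hfsm' : Algebra.Smooth k (Localization.Away f) := by
    rw [HasRingHomProperty.Spec_iff (P := @Smooth)] at hfsm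
    exact RingHom.smooth_algebraMap.1 hfsm
  obtain ⟨h, hhp, hh⟩ : ∃ h, h ∉ p ∧ h ∈ F := by
    obtain ⟨h, hh, hsm, hpiece⟩ := exists_piece x hx p hf hfsm'
    by_contra! hcon
    have h2 : h ∈ Ideal.span (pieces (k := k) x) := Ideal.subset_span ⟨hsm, hpiece⟩
    rw [Ideal.span, hFspan] at h2
    exact hh ((Submodule.span_le.2 fun y hy => not_not.1 fun e => hcon y e hy :
      Submodule.span A (F : Set A) ≤ p) h2)
  haveI : Algebra.Smooth k (Localization.Away h) := (hFsub hh).1
  let B := Localization.Away h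
  have hdisj : Disjoint (Submonoid.powers h : Set A) (p : Set A) :=
    (Ideal.disjoint_powers_iff_notMem_of_isPrime _).2 hhp
  let P := p.map (algebraMap A B)
  haveI hPp : P.IsPrime := IsLocalization.isPrime_of_isPrime_disjoint _ B p inferInstance hdisj
  have hcomap : P.comap (algebraMap A B) = p :=
    IsLocalization.under_map_of_isPrime_disjoint _ B inferInstance hdisj
  have hha : algebraMap A B ha0 = algebraMap k B (a 0) +
      ∑ i : Fin n, algebraMap k B (a i.succ) * algebraMap A B (x i) := by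
    simp [hha0, map_sum, ← IsScalarTower.algebraMap_apply]
  have hmem : ha0 ∈ p := by
    rw [Ideal.mem_comap, show Ideal.Quotient.mk (Ideal.span {ha0}) ha0 = 0 from
      Ideal.Quotient.eq_zero_iff_mem.2 (Ideal.subset_span rfl)]
    exact zero_mem _
  have hPmem := Ideal.mem_map_of_mem (algebraMap A B) hmem
  rw [hha] at hPmem
  obtain ⟨d, z, b, hb, t₀, ht₀⟩ := hg' h hh a (ha h hh) P hPp hPmem
  rw [← hha] at ht₀
  haveI : Nontrivial B := ⟨⟨0, 1, fun e => hPp.ne_top ((Ideal.eq_top_iff_one P).2 (e ▸ zero_mem P))⟩⟩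
  obtain rfl : d = r := dim_eq (h := h) hdim b hb
  obtain ⟨m, rfl⟩ : ∃ m, d = m + 1 := ⟨d - 1, by have := t₀.isLt; omega⟩
  -- invert the coefficient
  let c := b.repr (D k B (algebraMap A B ha0)) t₀
  let B' := Localization.Away c
  haveI : Algebra.Smooth k B' := Algebra.Smooth.comp k B B'
  let b₁ : Module.Basis (Fin (m + 1)) B' Ω[B'⁄k] :=
    b.ofIsLocalizedModule B' (Submonoid.powers c) (map k k B B')
  have hb₁ : ∀ t, b₁ t = D k B' (algebraMap B B' (z t)) := fun t => by
    rw [show b₁ t = map k k B B' (b t) from Module.Basis.ofIsLocalizedModule_apply .., hb]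
    exact KaehlerDifferential.map_D k k B B' _
  let hc : B' := algebraMap B B' (algebraMap A B ha0)
  have hc₁ : D k B' hc = ∑ t, algebraMap B B' (b.repr (D k B (algebraMap A B ha0)) t) • b₁ t := by
    conv_lhs => rw [show D k B' hc = map k k B B' (D k B (algebraMap A B ha0)) by simp [hc],
      ← b.sum_repr (D k B (algebraMap A B ha0)), map_sum]
    refine Finset.sum_congr rfl fun t _ => ?_
    rw [map_smul, show map k k B B' (b t) = b₁ t from
      (Module.Basis.ofIsLocalizedModule_apply ..).symm]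
    exact (algebraMap_smul B' (b.repr (D k B (algebraMap A B ha0)) t) (b₁ t)).symm
  let z₂ : Fin (m + 1) → B' := Function.update (fun t => algebraMap B B' (z t)) t₀ hc
  let L : Ω[B'⁄k] →ₗ[B'] Ω[B'⁄k] := b₁.constr B' fun t => D k B' (z₂ t)
  have hL : Function.Surjective L := by
    rw [← LinearMap.range_eq_top, Module.Basis.constr_range, eq_top_iff, ← b₁.span_eq,
      Submodule.span_le]
    rintro _ ⟨t, rfl⟩
    set S := Submodule.span B' (Set.range fun t => D k B' (z₂ t))
    have hne : ∀ t, t ≠ t₀ → b₁ t ∈ S := fun t ht => Submodule.subset_span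
      ⟨t, by simp [z₂, Function.update_of_ne ht, hb₁]⟩
    by_cases ht : t = t₀
    · subst ht
      have h1 : D k B' hc ∈ S := Submodule.subset_span ⟨t, by simp [z₂]⟩
      rw [hc₁, Finset.sum_eq_add_sum_sdiff_singleton_of_mem (Finset.mem_univ t)] at h1
      rw [S.add_mem_iff_left (Submodule.sum_mem _ fun s hs =>
        S.smul_mem _ (hne s (by simpa using (Finset.mem_sdiff.1 hs).2)))] at h1
      exact (Submodule.smul_mem_iff_of_isUnit S
        (IsLocalization.Away.algebraMap_isUnit (S := B') c)).1 h1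
    · exact hne t ht
  haveI : Module.Finite B' Ω[B'⁄k] := Module.Finite.of_basis b₁
  let b₂ := b₁.map (LinearEquiv.ofBijective L
    (OrzechProperty.bijective_of_surjective_endomorphism L hL))
  have hb₂ : ∀ t, b₂ t = D k B' (z₂ t) := fun t => by
    rw [Module.Basis.map_apply]
    exact b₁.constr_basis B' _ t
  let b₃ := b₂.reindex (Equiv.swap 0 t₀)
  have hE := isStandardSmooth_quotient_of_coord (z := z₂ ∘ Equiv.swap 0 t₀) b₃ (fun t => by
    simp [b₃, Module.Basis.reindex_apply, hb₂])
  -- identify with the localisation of the section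
  let f₁ := h * (IsLocalization.Away.sec h c).1
  haveI hloc : IsLocalization.Away f₁ B' := IsLocalization.Away.mul_of_associated (S := B) _ _ c
    (IsLocalization.Away.associated_sec_fst h c)
  have hsec : (IsLocalization.Away.sec h c).1 ∉ p := by
    intro hm
    refine ht₀ ((Ideal.mem_iff_of_associated
      (IsLocalization.Away.associated_sec_fst h c)).1 ?_)
    exact Ideal.mem_map_of_mem _ hm
  refine ⟨Ideal.Quotient.mk _ f₁, ‹p.IsPrime›.mul_notMem hhp hsec, ?_⟩
  have hmap : (Ideal.span {ha0}).map (algebraMap A B') =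
      Ideal.span {(z₂ ∘ Equiv.swap 0 t₀) 0} := by
    rw [Ideal.map_span, Set.image_singleton]
    simp [z₂, hc, IsScalarTower.algebraMap_apply A B B']
  haveI := Algebra.IsStandardSmoothOfRelativeDimension.of_algEquiv m
    (R := k) (S := B' ⧸ Ideal.span {(z₂ ∘ Equiv.swap 0 t₀) 0})
    (T := B' ⧸ (Ideal.span {ha0}).map (algebraMap A B'))
    (Ideal.quotientEquivAlgOfEq k hmap.symm)
  haveI : IsLocalization.Away (Ideal.Quotient.mk (Ideal.span {ha0}) f₁)
      (B' ⧸ (Ideal.span {ha0}).map (algebraMap A B')) := by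
    show IsLocalization (Submonoid.powers _) _
    have h1 : IsLocalization (Algebra.algebraMapSubmonoid (A ⧸ Ideal.span {ha0})
        (Submonoid.powers f₁)) (B' ⧸ (Ideal.span {ha0}).map (algebraMap A B')) := inferInstance
    rwa [Algebra.algebraMapSubmonoid, Submonoid.map_powers] at h1
  haveI : IsScalarTower k (A ⧸ Ideal.span {ha0})
      (B' ⧸ (Ideal.span {ha0}).map (algebraMap A B')) :=
    IsScalarTower.of_algebraMap_eq (R := k) (S := A ⧸ Ideal.span {ha0})
      (A := B' ⧸ (Ideal.span {ha0}).map (algebraMap A B')) fun c => by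
        show Ideal.Quotient.mk _ (algebraMap k B' c) = Ideal.Quotient.mk _ _
        exact congrArg _ (IsScalarTower.algebraMap_apply k A B' c)
  let eloc := (IsLocalization.algEquiv (Submonoid.powers (Ideal.Quotient.mk (Ideal.span {ha0}) f₁))
    (B' ⧸ (Ideal.span {ha0}).map (algebraMap A B'))
    (Localization.Away (Ideal.Quotient.mk (Ideal.span {ha0}) f₁))).restrictScalars k
  have hfin := Algebra.IsStandardSmoothOfRelativeDimension.of_algEquiv m
    (R := k) (S := B' ⧸ (Ideal.span {ha0}).map (algebraMap A B'))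
    (T := Localization.Away (Ideal.Quotient.mk (Ideal.span {ha0}) f₁)) eloc
  rw [HasRingHomProperty.Spec_iff (P := @SmoothOfRelativeDimension (m + 1 - 1))]
  exact RingHom.locally_of RingHom.isStandardSmoothOfRelativeDimension_respectsIso _
    ((RingHom.isStandardSmoothOfRelativeDimension_algebraMap _).2 hfin)

end Groth.Agent.BertiniAff
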